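import Cfsg.Agent.Lib.RecogPGL2.Counts
import Cfsg.Agent.Lib.SmallOrder.Basic
import Cfsg.Agent.Lib.SharpThree.Coord

/-!
The action on the `q + 1` Sylow `p`-subgroups is sharply three-transitive, and the number of involutions
forces the two-point stabiliser to be inverted by a transposing involution, hence commutative.
-/

set_option autoImplicit false
set_option linter.style.haveILetI false

namespace CfsgLib.RecogPGL2

open Subgroup MulAction CfsgLib.Recog.OrderCounts CfsgLib.SharpThree

variable {G : Type*} [Group G] [Finite G] {p n : ℕ} [Fact p.Prime]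

theorem stab_eq (P : Sylow p G) : stabilizer G P = Subgroup.normalizer ((P : Subgroup G) : Set G) :=
  Sylow.stabilizer_eq_normalizer P

theorem smul_self (P : Sylow p G) {x : G} (hx : x ∈ (P : Subgroup G)) : x • P = P := by
  rw [← mem_stabilizer_iff, stab_eq]
  exact le_normalizer hx

theorem semireg (H : Hyp G p n) (P Q : Sylow p G) {x : G} (hx : x ∈ (P : Subgroup G)) (hQ : x • Q = Q)
    (hne : Q ≠ P) : x = 1 := by
  by_contra hx1
  obtain ⟨hxo, hP⟩ := sylow_eq_centralizer H P hx hx1
  have hn : x ∈ Subgroup.normalizer ((Q : Subgroup G) : Set G) := by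
    rwa [← stab_eq, mem_stabilizer_iff]
  have hz : IsPGroup p ↥(zpowers x) := IsPGroup.of_card (n := 1) (by rw [Nat.card_zpowers, hxo, pow_one])
  have hxQ : x ∈ (Q : Subgroup G) :=
    ((hz.inf_normalizer_sylow Q).le ⟨mem_zpowers x, hn⟩).2
  exact hne (Sylow.ext ((sylow_eq_centralizer H Q hxQ hx1).2.trans hP.symm))

theorem exists_move (H : Hyp G p n) {P Q R : Sylow p G} (hQ : Q ≠ P) (hR : R ≠ P) :
    ∃ x ∈ (P : Subgroup G), x • Q = R := by
  let f : ↥(P : Subgroup G) → {S : Sylow p G // S ≠ P} := fun x => ⟨(x : G) • Q, fun e =>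
    hQ (MulAction.injective (x : G) (e.trans (smul_self P x.2).symm))⟩
  have hf : Function.Injective f := fun a b e => by
    have e' : (a : G) • Q = (b : G) • Q := congrArg Subtype.val e
    have := semireg H P Q (x := (b : G)⁻¹ * a) (mul_mem (inv_mem b.2) a.2)
      (by rw [mul_smul, e', inv_smul_smul]) hQ
    exact Subtype.ext (inv_mul_eq_one.1 this).symm
  have hc : Nat.card {S : Sylow p G // S ≠ P} ≤ Nat.card ↥(P : Subgroup G) := by
    classical
    haveI := Fintype.ofFinite (Sylow p G)
    rw [(card_sylow H).2 P, Nat.card_eq_fintype_card, Fintype.card_subtype_compl, Fintype.card_subtype_eq,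
      ← Nat.card_eq_fintype_card, (card_sylow H).1]
    omega
  obtain ⟨x, hx⟩ := (hf.bijective_of_nat_card_le hc).2 ⟨R, hR⟩
  exact ⟨x, x.2, congrArg Subtype.val hx⟩

theorem eq_one_of_three (H : Hyp G p n) {P Q R : Sylow p G} (hQ : Q ≠ P) (hR : R ≠ P) (hQR : R ≠ Q)
    {h : G} (h1 : h • P = P) (h2 : h • Q = Q) (h3 : h • R = R) : h = 1 := by
  obtain ⟨u, hu, huQ⟩ := exists_move H hQ hR
  have hnorm : h⁻¹ * u⁻¹ * h ∈ (P : Subgroup G) := by
    have hn : h ∈ Subgroup.normalizer ((P : Subgroup G) : Set G) := by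
      rwa [← stab_eq, mem_stabilizer_iff]
    have := (Subgroup.mem_normalizer_iff.1 (inv_mem hn) u⁻¹).1 (inv_mem hu)
    rwa [inv_inv] at this
  have hc : h⁻¹ * u⁻¹ * h * u = 1 := by
    refine semireg H P Q (mul_mem hnorm hu) ?_ hQ
    rw [mul_smul, huQ, mul_smul, mul_smul, h3, ← huQ, inv_smul_smul, inv_smul_eq_iff.2 h2.symm]
  have hu1 : u ≠ 1 := fun e => hQR (by rw [← huQ, e, one_smul])
  have hcomm : Commute u h := by
    have := congrArg (fun w => u * h * w) hc
    simpa [mul_assoc, Commute, SemiconjBy] using this.symm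
  obtain ⟨-, hP⟩ := sylow_eq_centralizer H P hu hu1
  have hhP : h ∈ (P : Subgroup G) := hP ▸ mem_centralizer_singleton_iff.2 hcomm.symm.eq
  exact semireg H P Q hhP h2 hQ

theorem exists_move_pair (H : Hyp G p n) {P Q R R' : Sylow p G} (hQ : Q ≠ P) (hR : R ≠ P) (hQR : R ≠ Q)
    (hR' : R' ≠ P) (hQR' : R' ≠ Q) : ∃ h : G, h • P = P ∧ h • Q = Q ∧ h • R = R' := by
  classical
  haveI := Fintype.ofFinite (Sylow p G)
  let M : Subgroup G := stabilizer G P ⊓ stabilizer G Q
  let f : M → {S : Sylow p G // S ≠ P ∧ S ≠ Q} := fun h => ⟨(h : G) • R,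
    fun e => hR (MulAction.injective (h : G) (e.trans h.2.1.symm)),
    fun e => hQR (MulAction.injective (h : G) (e.trans h.2.2.symm))⟩
  have hf : Function.Injective f := fun a b e => by
    have e' : (a : G) • R = (b : G) • R := congrArg Subtype.val e
    have hbP : (b : G) ∈ stabilizer G P := b.2.1
    have hbQ : (b : G) ∈ stabilizer G Q := b.2.2
    have haP : (a : G) ∈ stabilizer G P := a.2.1
    have haQ : (a : G) ∈ stabilizer G Q := a.2.2
    have := eq_one_of_three H hQ hR hQR (h := (b : G)⁻¹ * a)
      (mem_stabilizer_iff.1 (mul_mem (inv_mem hbP) haP : (b : G)⁻¹ * a ∈ stabilizer G P))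
      (mem_stabilizer_iff.1 (mul_mem (inv_mem hbQ) haQ : (b : G)⁻¹ * a ∈ stabilizer G Q))
      (by rw [mul_smul, e', inv_smul_smul])
    exact Subtype.ext (inv_mul_eq_one.1 this).symm
  -- `M` is a point stabiliser in the normaliser of `P`, transitive on the other `q` points
  have hN : Nat.card ↥(stabilizer G P) = p ^ n * Nat.card M := by
    let g : stabilizer G P → {S : Sylow p G // S ≠ P} := fun k => ⟨(k : G) • Q, fun e =>
      hQ (MulAction.injective (k : G) (e.trans k.2.symm))⟩
    have hfib : ∀ S : {S : Sylow p G // S ≠ P}, Nat.card {k : stabilizer G P // g k = S} = Nat.card M := by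
      intro S
      obtain ⟨u, hu, huS⟩ := exists_move H hQ S.2
      have hu' : u ∈ stabilizer G P := smul_self P hu
      refine Nat.card_congr
        ⟨fun k => ⟨u⁻¹ * (k.1 : G), Subgroup.mem_inf.2 ⟨mul_mem (inv_mem hu') k.1.2, ?_⟩⟩,
          fun m => ⟨⟨u * (m : G), mul_mem hu' (Subgroup.mem_inf.1 m.2).1⟩, Subtype.ext ?_⟩,
          fun k => Subtype.ext (Subtype.ext (mul_inv_cancel_left u _)),
          fun m => Subtype.ext (inv_mul_cancel_left u _)⟩
      · show u⁻¹ * (k.1 : G) ∈ stabilizer G Q
        rw [mem_stabilizer_iff, mul_smul, inv_smul_eq_iff, huS]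
        exact congrArg Subtype.val k.2
      · show (u * (m : G)) • Q = S
        rw [mul_smul, show (m : G) • Q = Q from m.2.2, huS]
    rw [← Nat.card_congr (Equiv.sigmaFiberEquiv g), Nat.card_sigma, Finset.sum_congr rfl fun S _ => hfib S,
      Finset.sum_const, Finset.card_univ, smul_eq_mul, Fintype.card_subtype_compl, Fintype.card_subtype_eq,
      ← Nat.card_eq_fintype_card, (card_sylow H).1, Nat.add_sub_cancel]
  have hM : (p ^ n + 1) * Nat.card M = (p ^ n) ^ 2 - 1 := by
    have h := SmallOrder.card_normalizer_mul P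
    rw [← stab_eq, hN, (card_sylow H).1, H.card] at h
    refine Nat.eq_of_mul_eq_mul_left (pow_pos H.prime.pos n) ?_
    rw [← h]; ring
  have hM' : Nat.card M = p ^ n - 1 := by
    refine Nat.eq_of_mul_eq_mul_left (show 0 < p ^ n + 1 by omega) (hM.trans ?_)
    simpa using Nat.sq_sub_sq (p ^ n) 1
  have hc : Nat.card {S : Sylow p G // S ≠ P ∧ S ≠ Q} ≤ Nat.card M := by
    rw [hM', Nat.card_eq_fintype_card, Fintype.card_subtype]
    have : (Finset.univ.filter fun S : Sylow p G => S ≠ P ∧ S ≠ Q) = (Finset.univ.erase P).erase Q := by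
      ext S; simp [and_comm]
    rw [this, Finset.card_erase_of_mem (by simp [hQ]), Finset.card_erase_of_mem (Finset.mem_univ P),
      Finset.card_univ, ← Nat.card_eq_fintype_card, (card_sylow H).1]
    omega
  obtain ⟨h, hh⟩ := (hf.bijective_of_nat_card_le hc).2 ⟨R', hR', hQR'⟩
  exact ⟨h, h.2.1, h.2.2, congrArg Subtype.val hh⟩

theorem isS3 (H : Hyp G p n) : IsS3 G (Sylow p G) := by
  refine ⟨⟨fun x y => ?_⟩, fun x => (Subgroup.eq_bot_iff_forall _).2 fun h hh => ?_⟩
  · obtain ⟨g0, h0⟩ := MulAction.exists_smul_eq G (x 0) (y 0)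
    have hne : ∀ (z : Fin 3 ↪ Sylow p G) (i j : Fin 3), i ≠ j → z i ≠ z j :=
      fun z i j hij e => hij (z.injective e)
    obtain ⟨u, hu, hu1⟩ := exists_move H (P := y 0) (Q := g0 • x 1) (R := y 1)
      (fun e => hne x 1 0 (by decide) (MulAction.injective g0 (e.trans h0.symm))) (hne y 1 0 (by decide))
    have hu0 := smul_self (y 0) hu
    obtain ⟨h, hh0, hh1, hh2⟩ := exists_move_pair H (P := y 0) (Q := y 1) (R := (u * g0) • x 2) (R' := y 2)
      (hne y 1 0 (by decide))
      (fun e => hne x 2 0 (by decide) (MulAction.injective (u * g0)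
        (e.trans (show y 0 = (u * g0) • x 0 by rw [mul_smul, h0, hu0]))))
      (fun e => hne x 2 1 (by decide) (MulAction.injective (u * g0)
        (e.trans (show y 1 = (u * g0) • x 1 by rw [mul_smul, hu1]))))
      (hne y 2 0 (by decide)) (hne y 2 1 (by decide))
    refine ⟨h * (u * g0), ?_⟩
    refine DFunLike.ext _ _ fun i => ?_
    rw [Function.Embedding.smul_apply]
    fin_cases i
    · show (h * (u * g0)) • x 0 = y 0
      rw [mul_smul, mul_smul, h0, hu0, hh0]
    · show (h * (u * g0)) • x 1 = y 1
      rw [mul_smul, mul_smul u, hu1, hh1]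
    · show (h * (u * g0)) • x 2 = y 2
      rw [mul_smul, hh2]
  · have e : ∀ i, h • x i = x i := fun i => congrArg (fun z : Fin 3 ↪ Sylow p G => z i) hh
    exact eq_one_of_three H (P := x 0) (Q := x 1) (R := x 2)
      (fun h => absurd (x.injective h) (by decide)) (fun h => absurd (x.injective h) (by decide))
      (fun h => absurd (x.injective h) (by decide)) (e 0) (e 1) (e 2)

open Finset in
/-- With `q²` involutions every element transposing a given pair is an involution. -/
theorem swap_sq_one {α : Type*} [Fintype α] [DecidableEq α] [MulAction G α] (h : IsS3 G α)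
    (hev : Even (Fintype.card α)) (hn : 3 ≤ Fintype.card α)
    (hinv : cnt G 2 = (Fintype.card α - 1) ^ 2) {a b : α} (hab : a ≠ b) {g : G}
    (ga : g • a = b) (gb : g • b = a) : g * g = 1 := by
  classical
  haveI := Fintype.ofFinite G
  let T : Finset G := univ.filter fun t => orderOf t = 2
  have hT : T.card = (Fintype.card α - 1) ^ 2 := by
    rw [← hinv, cnt, Nat.card_eq_fintype_card, Fintype.card_subtype]
  have hsq : ∀ t ∈ T, t * t = 1 := fun t ht => by
    rw [← pow_two, ← (mem_filter.1 ht).2, pow_orderOf_eq_one]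
  let fx : G → Finset α := fun t => univ.filter fun x : α => t • x = x
  have hfx : ∀ t ∈ T, (fx t).card = 0 ∨ (fx t).card = 2 := fun t ht => by
    haveI : Fact (Nat.Prime 2) := ⟨Nat.prime_two⟩
    have hne : t ≠ 1 := fun e => by simp [T, e] at ht
    have hm := fix_mod (α := α) (t := t) (p := 2) (by rw [pow_two, hsq t ht])
    have hle := h.fix_card_le hne
    rw [Nat.even_iff] at hev
    simp only [fx]
    omega
  have key1 := sum_card_bipartiteAbove_eq_sum_card_bipartiteBelow
    (r := fun (t : G) (x : α × α) => t • x.1 = x.1 ∧ t • x.2 = x.2) (s := T) (t := (univ : Finset α).offDiag)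
  have e1 : ∀ t ∈ T, ((univ : Finset α).offDiag.bipartiteAbove
      (fun (t : G) (x : α × α) => t • x.1 = x.1 ∧ t • x.2 = x.2) t).card = (fx t).card := by
    intro t ht
    have : (univ : Finset α).offDiag.bipartiteAbove (fun (t : G) (x : α × α) => t • x.1 = x.1 ∧ t • x.2 = x.2) t
        = (fx t).offDiag := by
      ext x
      simp only [mem_bipartiteAbove, mem_offDiag, fx, mem_filter, mem_univ, true_and]
      tauto
    rw [this, offDiag_card]
    rcases hfx t ht with e | e <;> rw [e]
  have e2 : ∀ x ∈ (univ : Finset α).offDiag, (T.bipartiteBelow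
      (fun (t : G) (x : α × α) => t • x.1 = x.1 ∧ t • x.2 = x.2) x).card = 1 := by
    intro x hx
    simp only [mem_offDiag, mem_univ, true_and] at hx
    obtain ⟨t, ht, hu⟩ := h.existsUnique_involution hev hn hx
    refine card_eq_one.2 ⟨t, eq_singleton_iff_unique_mem.2 ⟨?_, fun u hu' => hu u ?_⟩⟩
    · simp only [mem_bipartiteBelow, T, mem_filter, mem_univ, true_and]
      exact ht
    · simp only [mem_bipartiteBelow, T, mem_filter, mem_univ, true_and] at hu'
      exact hu'
  rw [sum_congr rfl e1, sum_const_nat e2, mul_one] at key1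
  let R : G → α × α → Prop := fun t x => t • x.1 = x.2
  let m : G → α × α → Prop := fun t x => t • x.1 = x.2 ∧ t • x.2 = x.1
  have key2 := sum_card_bipartiteAbove_eq_sum_card_bipartiteBelow (r := R) (s := T)
    (t := (univ : Finset α).offDiag)
  have e3 : ∀ t ∈ T, ((univ : Finset α).offDiag.bipartiteAbove R t).card + (fx t).card = Fintype.card α := by
    intro t ht
    have : (univ : Finset α).offDiag.bipartiteAbove R t =
        (univ.filter fun x : α => ¬ t • x = x).image fun x => (x, t • x) := by
      ext ⟨c, d⟩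
      simp only [mem_bipartiteAbove, mem_offDiag, mem_univ, true_and, R, mem_image, mem_filter, Prod.mk.injEq]
      constructor
      · rintro ⟨hcd, e⟩
        exact ⟨c, fun e' => hcd (e'.symm.trans e), rfl, e⟩
      · rintro ⟨c', hc, rfl, rfl⟩
        exact ⟨fun e => hc e.symm, rfl⟩
    rw [this, card_image_of_injective _ (fun x y e => congrArg Prod.fst e), ← card_univ, add_comm,
      card_filter_add_card_filter_not]
  have e4 : ∑ t ∈ T, ((univ : Finset α).offDiag.bipartiteAbove R t).card + ∑ t ∈ T, (fx t).card =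
      T.card * Fintype.card α := by
    rw [← sum_add_distrib, sum_const_nat e3]
  have hpairs : (univ : Finset α).offDiag.card = Fintype.card α * (Fintype.card α - 1) := by
    rw [offDiag_card, card_univ, Nat.mul_sub_one]
  have hbound : ∀ x ∈ (univ : Finset α).offDiag, (T.bipartiteBelow R x).card ≤ Fintype.card α - 2 ∧
      ((T.bipartiteBelow R x).card = Fintype.card α - 2 → x = (a, b) → g ∈ T) := by
    intro x hx
    simp only [mem_offDiag, mem_univ, true_and] at hx
    let S : Finset G := univ.filter fun k => k • x.1 = x.2 ∧ k • x.2 = x.1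
    have hsub : T.bipartiteBelow R x ⊆ S := by
      intro t ht
      simp only [mem_bipartiteBelow] at ht
      refine mem_filter.2 ⟨mem_univ _, ht.2, ?_⟩
      have e := ht.2
      simp only [R] at e
      rw [← e, ← mul_smul, hsq t ht.1, one_smul]
    obtain ⟨c, c1, c2⟩ := exists_third hn x.1 x.2
    have hS : S.card ≤ Fintype.card α - 2 := by
      have : (univ.filter fun y : α => y ≠ x.1 ∧ y ≠ x.2).card = Fintype.card α - 2 := by
        have : (univ.filter fun y : α => y ≠ x.1 ∧ y ≠ x.2) = (univ.erase x.1).erase x.2 := by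
          ext y; simp [and_comm]
        rw [this, card_erase_of_mem (by simp [Ne.symm hx]), card_erase_of_mem (mem_univ _), card_univ]
        omega
      rw [← this]
      refine card_le_card_of_injOn (fun k => k • c) ?_ ?_
      · intro k hk
        simp only [S, coe_filter, Set.mem_ofPred_eq, mem_univ, true_and] at hk
        simp only [coe_filter, Set.mem_ofPred_eq, mem_univ, true_and]
        exact ⟨fun e => c2 (MulAction.injective k (e.trans hk.2.symm)),
          fun e => c1 (MulAction.injective k (e.trans hk.1.symm))⟩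
      · intro k hk k' hk' e
        simp only [S, coe_filter, Set.mem_ofPred_eq, mem_univ, true_and] at hk hk'
        exact h.eq_of_three hx c1.symm c2.symm (hk.1.trans hk'.1.symm) (hk.2.trans hk'.2.symm) e
    refine ⟨(card_le_card hsub).trans hS, fun heq hxab => ?_⟩
    have hgS : g ∈ S := by
      subst hxab
      exact mem_filter.2 ⟨mem_univ _, ga, gb⟩
    rw [← eq_of_subset_of_card_le hsub (heq ▸ hS)] at hgS
    exact (mem_bipartiteBelow R).1 hgS |>.1
  have htot : ∑ x ∈ (univ : Finset α).offDiag, (T.bipartiteBelow R x).card =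
      (univ : Finset α).offDiag.card * (Fintype.card α - 2) := by
    rw [← key2]
    rw [key1, hT, hpairs] at e4
    rw [hpairs]
    obtain ⟨N, hN⟩ : ∃ N, Fintype.card α = N + 2 := ⟨Fintype.card α - 2, by omega⟩
    simp only [hN, Nat.add_sub_cancel, show N + 2 - 1 = N + 1 from rfl] at e4 ⊢
    linarith
  rw [← smul_eq_mul, ← Finset.sum_const] at htot
  have hall := (sum_eq_sum_iff_of_le fun x hx => (hbound x hx).1).1 htot
  exact hsq g ((hbound (a, b) (by simp [hab])).2 (hall (a, b) (by simp [hab])) rfl)

/-- The group is a projective general linear group. -/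
theorem exists_mulEquiv (H : Hyp G p n) :
    ∃ (F : Type) (_ : Field F) (_ : Fintype F), Fintype.card F = p ^ n ∧
      Nonempty (G ≃* Matrix.ProjGenLinGroup (Fin 2) F) := by
  classical
  haveI := Fintype.ofFinite (Sylow p G)
  have hc : Fintype.card (Sylow p G) = p ^ n + 1 := by rw [← Nat.card_eq_fintype_card, (card_sylow H).1]
  have h := isS3 H
  have hq := H.three
  have hev : Even (Fintype.card (Sylow p G)) := by
    rw [hc]
    exact ((H.prime.odd_of_ne_two H.odd).pow).add_one
  have hn : 3 ≤ Fintype.card (Sylow p G) := by omega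
  obtain ⟨a⟩ : Nonempty (Sylow p G) := Fintype.card_pos_iff.1 (by omega)
  obtain ⟨b, hb, -⟩ := exists_third hn a a
  obtain ⟨c, hca, hcb⟩ := exists_third hn a b
  obtain ⟨s, hsa, hsb, hsc⟩ := h.exists_three hb.symm hca.symm hcb.symm hb hcb.symm hca.symm
  have hinv : cnt G 2 = (Fintype.card (Sylow p G) - 1) ^ 2 := by rw [hc, Nat.add_sub_cancel, cnt_two H]
  have hM : ∀ m m' : G, m • a = a → m • b = b → m' • a = a → m' • b = b → m * m' = m' * m := by
    intro m m' ma mb ma' mb'
    have key : ∀ w : G, w • a = a → w • b = b → s * w * s = w⁻¹ := fun w wa wb => by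
      have := swap_sq_one h hev hn hinv hb.symm (g := s * w) (by rw [mul_smul, wa, hsa])
        (by rw [mul_smul, wb, hsb])
      rw [← mul_assoc] at this
      exact eq_inv_of_mul_eq_one_left this
    have hss := h.swap_sq hb.symm hca.symm hcb.symm hsa hsb hsc
    have e : (m * m')⁻¹ = m⁻¹ * m'⁻¹ := by
      rw [← key m ma mb, ← key m' ma' mb', ← key (m * m') (by rw [mul_smul, ma', ma]) (by rw [mul_smul, mb', mb])]
      calc s * (m * m') * s = s * m * (s * s) * m' * s := by rw [hss]; group
        _ = _ := by group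
    have := congrArg (·⁻¹) e
    simpa using this
  obtain ⟨F, i1, i2, hF, hiso⟩ := h.exists_mulEquiv_pgl hb.symm hca.symm hcb.symm hsa hsb hsc hM
  exact ⟨F, i1, i2, by omega, hiso⟩

end CfsgLib.RecogPGL2
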