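import Cfsg.Agent.Lib.Recog.OrderCounts

/-!
Groups of order `q(q²-1)`, `q` a power of an odd prime `p`, whose element-order counts are among
those of `PGL₂(q)`: the elements of order divisible by `p` have order `p`, and the Sylow
`p`-subgroups are abelian trivial-intersection subgroups, `q + 1` in number.
-/

set_option autoImplicit false
set_option linter.style.haveILetI false

namespace CfsgLib.RecogPGL2

open Subgroup CfsgLib.Recog.OrderCounts

theorem card_conj_mul {G : Type*} [Group G] [Finite G] (a : G) :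
    Nat.card {x : G // ∃ k, k * a * k⁻¹ = x} * Nat.card ↥(centralizer ({a} : Set G)) = Nat.card G := by
  have h := Subgroup.card_mul_index (centralizer ({a} : Set G))
  have e : Nat.card {x : G // ∃ k, k * a * k⁻¹ = x} = (centralizer ({a} : Set G)).index := by
    have hfib : ∀ k k' : G, k * a * k⁻¹ = k' * a * k'⁻¹ ↔
        QuotientGroup.leftRel (centralizer ({a} : Set G)) k k' := fun k k' => by
      rw [QuotientGroup.leftRel_apply, mem_centralizer_singleton_iff]
      constructor
      · intro h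
        have := congrArg (fun w => k⁻¹ * w * k') h
        simp only [mul_assoc, inv_mul_cancel_left, inv_mul_cancel, mul_one] at this
        simpa [mul_assoc] using this.symm
      · intro h
        have := congrArg (fun w => k * w * k'⁻¹) h
        simp only [mul_assoc, mul_inv_cancel_left, mul_inv_cancel, mul_one] at this
        simpa [mul_assoc] using this.symm
    refine (Nat.card_congr (Equiv.ofBijective
      (Quotient.lift (fun k : G => (⟨k * a * k⁻¹, k, rfl⟩ : {x : G // ∃ k, k * a * k⁻¹ = x}))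
        (fun k k' hk => Subtype.ext ((hfib k k').2 hk))) ⟨?_, ?_⟩)).symm
    · intro x y
      induction x using Quotient.inductionOn
      induction y using Quotient.inductionOn
      intro hxy
      exact Quotient.sound ((hfib _ _).1 (congrArg Subtype.val hxy))
    · rintro ⟨_, k, rfl⟩
      exact ⟨⟦k⟧, rfl⟩
  rw [e, mul_comm, h]

/-- The hypothesis on the group. -/
structure Hyp (G : Type*) [Group G] (p n : ℕ) : Prop where
  prime : p.Prime
  odd : p ≠ 2
  npos : n ≠ 0
  three : 3 < p ^ n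
  card : Nat.card G = p ^ n * ((p ^ n) ^ 2 - 1)
  vals : ∀ m, cnt G m = 1 ∨ cnt G m = (p ^ n) ^ 2 - 1 ∨ p ^ n ∣ cnt G m
  sq : ∃ m, cnt G m = (p ^ n) ^ 2

variable {G : Type*} [Group G] [Finite G] {p n : ℕ} (H : Hyp G p n)
include H

theorem cnt_two : cnt G 2 = (p ^ n) ^ 2 := by
  obtain ⟨m, hm⟩ := H.sq
  have hodd : Odd ((p ^ n) ^ 2) := ((H.prime.odd_of_ne_two H.odd).pow).pow
  have hm0 : m ≠ 0 := by
    rintro rfl
    have hz : cnt G 0 = 0 := cnt_eq_zero.2 fun g => (orderOf_pos g).ne'
    have := H.three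
    rw [hz] at hm
    nlinarith
  have hm1 : m ≠ 1 := by
    rintro rfl
    rw [cnt_one] at hm
    have := H.three
    nlinarith
  have hle : m ≤ 2 := by
    by_contra hlt
    have he : 2 ∣ Nat.totient m := (Nat.totient_even (by omega)).two_dvd
    have := he.trans (totient_dvd (G := G) m)
    rw [hm] at this
    exact (Nat.not_even_iff_odd.2 hodd) (even_iff_two_dvd.2 this)
  rw [← hm, show m = 2 by omega]

theorem vals' {m : ℕ} (hm : m ≠ 1) : cnt G m = (p ^ n) ^ 2 - 1 ∨ p ^ n ∣ cnt G m := by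
  rcases H.vals m with h | h | h
  · exfalso
    have h2 : m ≠ 2 := by
      rintro rfl
      rw [cnt_two H] at h
      have := H.three
      nlinarith
    have hd := totient_dvd (G := G) m
    rw [h, Nat.dvd_one, Nat.totient_eq_one_iff] at hd
    omega
  · exact Or.inl h
  · exact Or.inr h

/-- The number of orders in `D` attained by `q² - 1` elements is `≡ 1 (mod q)` when `q` divides the sum. -/
theorem filter_card (D : Finset ℕ) (h1 : 1 ∈ D) (hd : p ^ n ∣ ∑ m ∈ D, cnt G m) :
    (((D.filter fun m => cnt G m = (p ^ n) ^ 2 - 1).card : ℕ) : ZMod (p ^ n)) = 1 := by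
  have hq := H.three
  have hsq : (1 : ℕ) ≤ (p ^ n) ^ 2 := by nlinarith
  have h0 : ((∑ m ∈ D, cnt G m : ℕ) : ZMod (p ^ n)) = 0 := (ZMod.natCast_eq_zero_iff _ _).2 hd
  have e : ∀ m ∈ D, (cnt G m : ZMod (p ^ n)) =
      (if m = 1 then 1 else 0) + (if cnt G m = (p ^ n) ^ 2 - 1 then -1 else 0) := by
    intro m _
    by_cases hm : m = 1
    · subst hm
      have hne : cnt G 1 ≠ (p ^ n) ^ 2 - 1 := by
        rw [cnt_one]
        have : 16 ≤ (p ^ n) ^ 2 := by nlinarith
        omega
      rw [if_pos rfl, if_neg hne, cnt_one, Nat.cast_one, add_zero]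
    · rw [if_neg hm, zero_add]
      by_cases hc : cnt G m = (p ^ n) ^ 2 - 1
      · rw [if_pos hc, hc, Nat.cast_sub hsq, Nat.cast_pow, ZMod.natCast_self, zero_pow two_ne_zero,
          Nat.cast_one, zero_sub]
      · rw [if_neg hc]
        exact (ZMod.natCast_eq_zero_iff _ _).2 ((vals' H hm).resolve_left hc)
  rw [Nat.cast_sum, Finset.sum_congr rfl e, Finset.sum_add_distrib, Finset.sum_ite_eq' D 1, if_pos h1,
    ← Finset.sum_filter, Finset.sum_const, nsmul_eq_mul, mul_neg, mul_one, ← sub_eq_add_neg,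
    sub_eq_zero] at h0
  exact h0.symm

theorem eq_one_of_cast {k : ℕ} (hk : (k : ZMod (p ^ n)) = 1) (hlt : k < p ^ n) : k = 1 := by
  have := H.three
  have h := (ZMod.natCast_eq_natCast_iff' k 1 (p ^ n)).1 (by rw [hk, Nat.cast_one])
  rwa [Nat.mod_eq_of_lt hlt, Nat.mod_eq_of_lt (by omega)] at h

theorem coprime_sq : Nat.Coprime p ((p ^ n) ^ 2 - 1) := by
  rw [H.prime.coprime_iff_not_dvd]
  intro hd
  have hp : p ∣ (p ^ n) ^ 2 := (dvd_pow_self p H.npos).trans (dvd_pow_self _ two_ne_zero)
  have hpos : 1 ≤ (p ^ n) ^ 2 := by have := H.three; nlinarith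
  have h := Nat.dvd_sub hp hd
  rw [Nat.sub_sub_self hpos, Nat.dvd_one] at h
  exact H.prime.ne_one h

theorem cnt_prime : cnt G p = (p ^ n) ^ 2 - 1 := by
  have hp := H.prime
  have hq0 : p ^ n ≠ 0 := pow_ne_zero _ hp.ne_zero
  have hD := filter_card H (p ^ n).divisors (Nat.one_mem_divisors.2 hq0)
    (dvd_sum hq0 (by rw [H.card]; exact dvd_mul_right _ _))
  have hle : ((p ^ n).divisors.filter fun m => cnt G m = (p ^ n) ^ 2 - 1).card < p ^ n := by
    refine lt_of_le_of_lt (Finset.card_le_card (t := (p ^ n).divisors.erase 1) ?_) ?_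
    · intro m hm
      rw [Finset.mem_filter] at hm
      refine Finset.mem_erase.2 ⟨?_, hm.1⟩
      rintro rfl
      have h2 := hm.2
      rw [cnt_one] at h2
      have := H.three
      have : 16 ≤ (p ^ n) ^ 2 := by nlinarith
      omega
    · rw [Finset.card_erase_of_mem (Nat.one_mem_divisors.2 hq0), Nat.divisors_prime_pow hp,
        Finset.card_map, Finset.card_range, Nat.add_sub_cancel]
      exact Nat.lt_pow_self hp.one_lt
  obtain ⟨m, hm⟩ := Finset.card_eq_one.1 (eq_one_of_cast H hD hle)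
  obtain ⟨hmd, hmc⟩ := Finset.mem_filter.1 (hm.symm ▸ Finset.mem_singleton_self m)
  obtain ⟨j, -, rfl⟩ := (Nat.mem_divisors_prime_pow hp n).1 hmd
  have hd := totient_dvd (G := G) (p ^ j)
  rw [hmc] at hd
  rcases j with _ | _ | j
  · have := H.three
    have : 16 ≤ (p ^ n) ^ 2 := by nlinarith
    rw [pow_zero, cnt_one] at hmc
    omega
  · simpa using hmc
  · exfalso
    rw [Nat.totient_prime_pow_succ hp, pow_succ] at hd
    have h : p ∣ (p ^ n) ^ 2 - 1 := (((dvd_mul_left p (p ^ j)).mul_right (p - 1))).trans hd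
    exact (hp.coprime_iff_not_dvd.1 (coprime_sq H)) h

theorem eq_prime_of_cnt {m : ℕ} (hm : cnt G m = (p ^ n) ^ 2 - 1) : m = p := by
  have hq := H.three
  have hp := H.prime
  have hQ : 16 ≤ (p ^ n) ^ 2 := by nlinarith
  have hG0 : Nat.card G ≠ 0 := Nat.card_pos.ne'
  let D := (Nat.card G).divisors
  have hmem : ∀ k, cnt G k ≠ 0 → k ∈ D := fun k hk =>
    Nat.mem_divisors.2 ⟨by_contra fun h => hk (cnt_of_not_dvd h), hG0⟩
  have hD := filter_card H D (Nat.one_mem_divisors.2 hG0) (by
    rw [← card_eq_sum, H.card]; exact dvd_mul_right _ _)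
  let T := D.filter fun k => cnt G k = (p ^ n) ^ 2 - 1
  have h2T : 2 ∉ T := fun h => by
    have := (Finset.mem_filter.1 h).2
    rw [cnt_two H] at this
    omega
  have hsum : T.card * ((p ^ n) ^ 2 - 1) + (p ^ n) ^ 2 ≤ Nat.card G := by
    have h2 : ∑ k ∈ insert 2 T, cnt G k ≤ ∑ k ∈ D, cnt G k := by
      refine Finset.sum_le_sum_of_subset (Finset.insert_subset (hmem 2 ?_) (Finset.filter_subset _ _))
      rw [cnt_two H]; omega
    rw [← card_eq_sum, Finset.sum_insert h2T, cnt_two H,
      Finset.sum_const_nat (s := T) (fun k hk => (Finset.mem_filter.1 hk).2)] at h2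
    omega
  have hlt : T.card < p ^ n := by
    rw [H.card] at hsum
    by_contra hc
    have := Nat.mul_le_mul_right ((p ^ n) ^ 2 - 1) (Nat.le_of_not_lt hc)
    omega
  obtain ⟨a, ha⟩ := Finset.card_eq_one.1 (eq_one_of_cast H hD hlt)
  have e : ∀ k, cnt G k = (p ^ n) ^ 2 - 1 → k = a := fun k hk => by
    have : k ∈ T := Finset.mem_filter.2 ⟨hmem k (by omega), hk⟩
    rwa [show T = {a} from ha, Finset.mem_singleton] at this
  rw [e m hm, e p (cnt_prime H)]

/-- Every element of order divisible by `p` has order `p`. -/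
theorem singular {g : G} (hg : p ∣ orderOf g) : orderOf g = p := by
  have hq := H.three
  have hp := H.prime
  have hQ : 16 ≤ (p ^ n) ^ 2 := by nlinarith
  have hN : (p ^ n) ^ 2 - 1 ≠ 0 := by omega
  let D := ((p ^ n) ^ 2 - 1).divisors
  have hp' : ∀ k ∈ D, ¬ p ∣ k := fun k hk hpk =>
    hp.coprime_iff_not_dvd.1 (coprime_sq H) (hpk.trans (Nat.dvd_of_mem_divisors hk))
  obtain ⟨m, hm⟩ := dvd_sum (G := G) hN (by rw [H.card]; exact dvd_mul_left _ _)
  have hpD : p ∉ D := fun h => hp' p h dvd_rfl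
  have hno : D.filter (fun k => cnt G k = (p ^ n) ^ 2 - 1) = ∅ :=
    Finset.filter_eq_empty_iff.2 fun k hk hc => hpD (eq_prime_of_cnt H hc ▸ hk)
  have hpmem : p ∈ (Nat.card G).divisors :=
    Nat.mem_divisors.2 ⟨by rw [H.card]; exact (dvd_pow_self p H.npos).trans (dvd_mul_right _ _),
      Nat.card_pos.ne'⟩
  have hsub : D ∪ {p} ⊆ (Nat.card G).divisors := by
    refine Finset.union_subset (fun k hk => Nat.mem_divisors.2 ⟨?_, Nat.card_pos.ne'⟩) (by simpa using hpmem)
    rw [H.card]
    exact dvd_mul_of_dvd_right (Nat.dvd_of_mem_divisors hk) _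
  have hle : ∑ k ∈ D, cnt G k + ((p ^ n) ^ 2 - 1) ≤ Nat.card G := by
    have := Finset.sum_le_sum_of_subset (f := cnt G) hsub
    rwa [← card_eq_sum, Finset.sum_union (by simpa using hpD), Finset.sum_singleton, cnt_prime H] at this
  -- the sum over the orders prime to `p` is `1` modulo `q`
  have h1 : ((∑ k ∈ D, cnt G k : ℕ) : ZMod (p ^ n)) = 1 := by
    rw [Nat.cast_sum, Finset.sum_eq_single 1]
    · rw [cnt_one, Nat.cast_one]
    · intro k hk hk1
      refine (ZMod.natCast_eq_zero_iff _ _).2 ((vals' H hk1).resolve_left fun hc => ?_)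
      exact hpD (eq_prime_of_cnt H hc ▸ hk)
    · exact fun h => absurd (Nat.one_mem_divisors.2 hN) h
  have hd : p ^ n ∣ m + 1 := by
    rw [← ZMod.natCast_eq_zero_iff, Nat.cast_add, Nat.cast_one]
    rw [show (∑ k ∈ D, cnt G k) = ((p ^ n) ^ 2 - 1) * m from hm, Nat.cast_mul,
      Nat.cast_sub (by omega), Nat.cast_pow, ZMod.natCast_self, zero_pow two_ne_zero, Nat.cast_one,
      zero_sub, neg_one_mul] at h1
    rw [← h1, add_neg_cancel]
  have hm1 : m + 1 ≤ p ^ n := by
    rw [show (∑ k ∈ D, cnt G k) = ((p ^ n) ^ 2 - 1) * m from hm, H.card] at hle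
    refine Nat.le_of_mul_le_mul_left (c := (p ^ n) ^ 2 - 1) ?_ (by omega)
    rw [Nat.mul_succ, mul_comm _ (p ^ n)]
    exact hle
  have heq : ∑ k ∈ D, cnt G k + ((p ^ n) ^ 2 - 1) = Nat.card G := by
    rw [show (∑ k ∈ D, cnt G k) = ((p ^ n) ^ 2 - 1) * m from hm, H.card,
      ← le_antisymm hm1 (Nat.le_of_dvd (Nat.succ_pos _) hd)]
    ring
  by_contra hne
  have hgD : orderOf g ∉ D ∪ {p} := by
    rw [Finset.mem_union, Finset.mem_singleton]
    exact fun h => h.elim (fun h => hp' _ h hg) hne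
  have hbig := Finset.sum_le_sum_of_subset (f := cnt G) (Finset.insert_subset
    (Nat.mem_divisors.2 ⟨orderOf_dvd_natCard g, Nat.card_pos.ne'⟩) hsub)
  rw [Finset.sum_insert hgD, ← card_eq_sum, Finset.sum_union (by simpa using hpD), Finset.sum_singleton,
    cnt_prime H] at hbig
  have := cnt_pos_iff.2 ⟨g, rfl⟩
  omega

/-- The centraliser of an element of order `p` has exponent `p`. -/
theorem pow_eq_one_of_commute {x y : G} (hx : orderOf x = p) (h : Commute x y) : y ^ p = 1 := by
  by_cases hy : p ∣ orderOf y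
  · rw [← singular H hy, pow_orderOf_eq_one]
  · have hc : Nat.Coprime (orderOf x) (orderOf y) := hx ▸ H.prime.coprime_iff_not_dvd.2 hy
    have e := h.orderOf_mul_eq_mul_orderOf_of_coprime hc
    rw [hx] at e
    have h1 := singular H (g := x * y) (e ▸ dvd_mul_right p _)
    rw [e] at h1
    rw [orderOf_eq_one_iff.1 ((Nat.mul_eq_left H.prime.ne_zero).1 h1), one_pow]

theorem isPGroup_centralizer {x : G} (hx : orderOf x = p) :
    IsPGroup p ↥(centralizer ({x} : Set G)) := fun y => ⟨1, Subtype.ext (by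
  rw [pow_one, SubmonoidClass.coe_pow, OneMemClass.coe_one]
  exact pow_eq_one_of_commute H hx ((mem_centralizer_singleton_iff.1 y.2).symm))⟩

theorem card_pow_le {K : Subgroup G} (hK : IsPGroup p ↥K) : Nat.card ↥K ∣ p ^ n := by
  haveI := Fact.mk H.prime
  obtain ⟨c, hc⟩ := IsPGroup.iff_card.1 hK
  have hd : p ^ c ∣ p ^ n * ((p ^ n) ^ 2 - 1) := H.card ▸ hc ▸ card_subgroup_dvd_card K
  rw [hc]
  exact ((coprime_sq H).pow_left c).dvd_of_dvd_mul_right hd

/-- The elements of order `p` form one class and have centralisers of order `q`. -/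
theorem card_centralizer {x : G} (hx : orderOf x = p) :
    Nat.card ↥(centralizer ({x} : Set G)) = p ^ n ∧ ∀ y : G, orderOf y = p → ∃ k, k * x * k⁻¹ = y := by
  have hsub : ∀ y : {y : G // ∃ k, k * x * k⁻¹ = y}, orderOf y.1 = p := by
    rintro ⟨_, k, rfl⟩
    exact (MulEquiv.orderOf_eq (MulAut.conj k) x).trans hx
  let f : {y : G // ∃ k, k * x * k⁻¹ = y} → {g : G // orderOf g = p} := fun y => ⟨y.1, hsub y⟩
  have hf : Function.Injective f := fun a b e => Subtype.ext (congrArg Subtype.val e :)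
  have hle : Nat.card {y : G // ∃ k, k * x * k⁻¹ = y} ≤ (p ^ n) ^ 2 - 1 :=
    (Nat.card_le_card_of_injective f hf).trans_eq (cnt_prime H)
  have hdvd := Nat.le_of_dvd (pow_pos H.prime.pos n) (card_pow_le H (isPGroup_centralizer H hx))
  have hm := card_conj_mul x
  rw [H.card] at hm
  have hN : 0 < (p ^ n) ^ 2 - 1 := by
    have := H.three
    have : 16 ≤ (p ^ n) ^ 2 := by nlinarith
    omega
  have hc : Nat.card ↥(centralizer ({x} : Set G)) = p ^ n := by
    refine le_antisymm hdvd (Nat.le_of_mul_le_mul_left (c := (p ^ n) ^ 2 - 1) ?_ hN)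
    calc ((p ^ n) ^ 2 - 1) * p ^ n = _ := mul_comm _ _
      _ = Nat.card {y : G // ∃ k, k * x * k⁻¹ = y} * Nat.card ↥(centralizer ({x} : Set G)) := hm.symm
      _ ≤ _ := Nat.mul_le_mul_right _ hle
  refine ⟨hc, fun y hy => ?_⟩
  rw [hc, mul_comm (p ^ n)] at hm
  obtain ⟨z, hz⟩ := (Function.Injective.bijective_of_nat_card_le hf
    ((cnt_prime H).trans (Nat.eq_of_mul_eq_mul_right (pow_pos H.prime.pos n) hm).symm).le).2 ⟨y, hy⟩
  obtain ⟨k, hk⟩ := z.2
  exact ⟨k, hk.trans (congrArg Subtype.val hz)⟩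

/-- Centralisers of elements of order `p` are abelian. -/
theorem comm_centralizer {x : G} (hx : orderOf x = p) {y z : G}
    (hy : y ∈ centralizer ({x} : Set G)) (hz : z ∈ centralizer ({x} : Set G)) : y * z = z * y := by
  have hp2 : 2 < p := lt_of_le_of_ne H.prime.two_le H.odd.symm
  obtain ⟨k, hk⟩ := (card_centralizer H hx).2 x⁻¹ (by rw [orderOf_inv, hx])
  have hk2 : ∀ i : ℕ, k ^ i * x * (k ^ i)⁻¹ = if Even i then x else x⁻¹ := by
    intro i
    induction i with
    | zero => simp
    | succ i ih =>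
      rw [pow_succ', show k * k ^ i * x * (k * k ^ i)⁻¹ = k * (k ^ i * x * (k ^ i)⁻¹) * k⁻¹ by group, ih]
      by_cases h : Even i
      · rw [if_pos h, if_neg (Nat.even_add_one.not.2 (not_not.2 h)), hk]
      · rw [if_neg h, if_pos (Nat.even_add_one.2 h)]
        have := congrArg (·⁻¹) hk
        simpa [mul_assoc] using this
  have hne : x⁻¹ ≠ x := fun e => by
    have h2 : x ^ 2 = 1 := by
      rw [pow_two]
      nth_rewrite 1 [← e]
      exact inv_mul_cancel x
    have := orderOf_le_of_pow_eq_one two_pos h2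
    omega
  have hev : Even (orderOf k) := by
    by_contra h
    have := hk2 (orderOf k)
    rw [pow_orderOf_eq_one, if_neg h] at this
    simp at this
    exact hne this.symm
  set t := k ^ (orderOf k / 2) with ht
  have ht2 : orderOf t = 2 := orderOf_pow_orderOf_div (orderOf_pos k).ne' hev.two_dvd
  have hnorm : ∀ w, w ∈ centralizer ({x} : Set G) → t * w * t⁻¹ ∈ centralizer ({x} : Set G) := by
    intro w hw
    rw [mem_centralizer_singleton_iff] at hw ⊢
    have hc : Commute w x := hw
    by_cases h : Even (orderOf k / 2)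
    · have e := hk2 (orderOf k / 2)
      rw [if_pos h, ← ht] at e
      have := hc.map (MulAut.conj t).toMonoidHom
      simp only [MulEquiv.coe_toMonoidHom, MulAut.conj_apply, e] at this
      exact this
    · have e := hk2 (orderOf k / 2)
      rw [if_neg h, ← ht] at e
      have := hc.map (MulAut.conj t).toMonoidHom
      simp only [MulEquiv.coe_toMonoidHom, MulAut.conj_apply, e] at this
      exact (by simpa using this.inv_right : Commute (t * w * t⁻¹) x).eq
  have htt : t * t = 1 := by rw [← pow_two, ← ht2, pow_orderOf_eq_one]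
  let φ : centralizer ({x} : Set G) →* centralizer ({x} : Set G) :=
    ((MulAut.conj t).toMonoidHom.comp (centralizer ({x} : Set G)).subtype).codRestrict _ fun w => hnorm w w.2
  have hφ : MonoidHom.FixedPointFree φ := by
    intro w hw
    by_contra hw1
    have hw' : t * (w : G) * t⁻¹ = w := congrArg Subtype.val hw
    have hwp : orderOf (w : G) = p := by
      haveI := Fact.mk H.prime
      exact orderOf_eq_prime (pow_eq_one_of_commute H hx (mem_centralizer_singleton_iff.1 w.2).symm)
        fun e => hw1 (Subtype.ext e)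
    have hc : Commute (w : G) t := (mul_inv_eq_iff_eq_mul.1 hw').symm
    have := pow_eq_one_of_commute H hwp hc
    have h2 := orderOf_dvd_of_pow_eq_one this
    rw [ht2] at h2
    have := (Nat.prime_dvd_prime_iff_eq Nat.prime_two H.prime).1 h2
    omega
  have hinv : Function.Involutive φ := by
    intro w
    apply Subtype.ext
    show t * (t * (w : G) * t⁻¹) * t⁻¹ = w
    rw [show t * (t * (w : G) * t⁻¹) * t⁻¹ = (t * t) * w * (t * t)⁻¹ by group, htt, one_mul, inv_one, mul_one]
  exact congrArg Subtype.val (hφ.commute_all_of_involutive hinv ⟨y, hy⟩ ⟨z, hz⟩).eq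

/-- A Sylow `p`-subgroup is the centraliser of each of its non-trivial elements. -/
theorem sylow_eq_centralizer [Fact p.Prime] (P : Sylow p G) {x : G} (hxP : x ∈ (P : Subgroup G)) (hx1 : x ≠ 1) :
    orderOf x = p ∧ (P : Subgroup G) = centralizer ({x} : Set G) := by
  have hcard : Nat.card ↥(P : Subgroup G) = p ^ n := by
    rw [P.card_eq_multiplicity, H.card, Nat.factorization_mul (pow_ne_zero _ H.prime.ne_zero) ?_,
      Finsupp.add_apply, H.prime.factorization_pow, Finsupp.single_eq_same,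
      Nat.factorization_eq_zero_of_not_dvd (H.prime.coprime_iff_not_dvd.1 (coprime_sq H)), add_zero]
    have := H.three
    have : 16 ≤ (p ^ n) ^ 2 := by nlinarith
    omega
  have hord : ∀ {z : G}, z ∈ (P : Subgroup G) → z ≠ 1 → orderOf z = p := by
    intro z hz hz1
    obtain ⟨i, hi⟩ := P.isPGroup' ⟨z, hz⟩
    obtain ⟨j, -, hj⟩ := (Nat.dvd_prime_pow H.prime).1
      (orderOf_dvd_of_pow_eq_one (congrArg Subtype.val hi : z ^ p ^ i = 1))
    refine singular H ?_
    rw [hj]
    refine dvd_pow_self p ?_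
    rintro rfl
    exact hz1 (orderOf_eq_one_iff.1 hj)
  haveI : Nontrivial ↥(P : Subgroup G) := ⟨⟨⟨x, hxP⟩, 1, fun e => hx1 (congrArg Subtype.val e)⟩⟩
  have := P.isPGroup'.center_nontrivial
  obtain ⟨z, hz⟩ := exists_ne (1 : Subgroup.center ↥(P : Subgroup G))
  have hz1 : ((z : ↥(P : Subgroup G)) : G) ≠ 1 := fun e => hz (Subtype.ext (Subtype.ext e))
  have hzp := hord (z : ↥(P : Subgroup G)).2 hz1
  have hPz : (P : Subgroup G) ≤ centralizer ({((z : ↥(P : Subgroup G)) : G)} : Set G) := fun w hw =>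
    mem_centralizer_singleton_iff.2 (congrArg Subtype.val (Subgroup.mem_center_iff.1 z.2 ⟨w, hw⟩))
  have hxo := hord hxP hx1
  refine ⟨hxo, eq_of_le_of_card_ge (fun w hw => mem_centralizer_singleton_iff.2
    (comm_centralizer H hzp (hPz hw) (hPz hxP))) ?_⟩
  rw [(card_centralizer H hxo).1, hcard]

/-- There are `q + 1` Sylow `p`-subgroups. -/
theorem card_sylow [Fact p.Prime] :
    Nat.card (Sylow p G) = p ^ n + 1 ∧ ∀ P : Sylow p G, Nat.card ↥(P : Subgroup G) = p ^ n := by
  classical
  have hex : ∀ g : G, orderOf g = p → ∃ P : Sylow p G, g ∈ (P : Subgroup G) := fun g hg => by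
    obtain ⟨P, hP⟩ := (IsPGroup.of_card (n := 1) (by rw [Nat.card_zpowers, hg, pow_one]) :
      IsPGroup p (Subgroup.zpowers g)).exists_le_sylow
    exact ⟨P, hP (Subgroup.mem_zpowers g)⟩
  have hcard : ∀ P : Sylow p G, Nat.card ↥(P : Subgroup G) = p ^ n := fun P => by
    obtain ⟨x, hx⟩ := exists_prime_orderOf_dvd_card' (G := ↥(P : Subgroup G)) p
      (P.dvd_card_of_dvd_card (by rw [H.card]; exact (dvd_pow_self p H.npos).trans (dvd_mul_right _ _)))
    have hx1 : (x : G) ≠ 1 := fun e => H.prime.ne_one (by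
      rw [← hx, show x = 1 from Subtype.ext e, orderOf_one])
    obtain ⟨hxo, he⟩ := sylow_eq_centralizer H P x.2 hx1
    rw [he, (card_centralizer H hxo).1]
  refine ⟨?_, hcard⟩
  choose f hf using hex
  let e : {g : G // orderOf g = p} → Σ P : Sylow p G, {x : (P : Subgroup G) // x ≠ 1} := fun g =>
    ⟨f g g.2, ⟨g, hf g g.2⟩, fun h => H.prime.ne_one (g.2.symm.trans (by
      rw [show (g : G) = 1 from congrArg Subtype.val h, orderOf_one]))⟩
  have he : Function.Bijective e := by
    constructor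
    · intro a b h
      exact Subtype.ext (congrArg (fun s : Σ P : Sylow p G, {x : (P : Subgroup G) // x ≠ 1} =>
        ((s.2.1 : (s.1 : Subgroup G)) : G)) h)
    · rintro ⟨P, ⟨x, hx⟩, hx1⟩
      have hx' : x ≠ 1 := fun e => hx1 (Subtype.ext e)
      obtain ⟨ho, hP⟩ := sylow_eq_centralizer H P hx hx'
      have hPf : f x ho = P := Sylow.ext ((sylow_eq_centralizer H _ (hf x ho) hx').2.trans hP.symm)
      exact ⟨⟨x, ho⟩, by subst hPf; rfl⟩
  haveI := Fintype.ofFinite (Sylow p G)
  have h := (Nat.card_congr (Equiv.ofBijective e he)).symm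
  rw [Nat.card_sigma] at h
  have : ∀ P : Sylow p G, Nat.card {x : (P : Subgroup G) // x ≠ 1} = p ^ n - 1 := fun P => by
    letI := Fintype.ofFinite (P : Subgroup G)
    rw [Nat.card_eq_fintype_card, Fintype.card_subtype_compl, Fintype.card_subtype_eq,
      ← Nat.card_eq_fintype_card, hcard]
  rw [Finset.sum_congr rfl fun P _ => this P, Finset.sum_const, Finset.card_univ, smul_eq_mul,
    ← Nat.card_eq_fintype_card] at h
  have hc : Nat.card {g : G // orderOf g = p} = (p ^ n) ^ 2 - 1 := cnt_prime H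
  rw [hc] at h
  have hq := H.three
  refine Nat.eq_of_mul_eq_mul_right (show 0 < p ^ n - 1 by omega) (h.trans ?_)
  have e2 : (p ^ n) ^ 2 - 1 ^ 2 = (p ^ n + 1) * (p ^ n - 1) := Nat.sq_sub_sq _ _
  simpa using e2

end CfsgLib.RecogPGL2
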