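import Cfsg.Agent.Lib.RecogPGL2.Counts
import Cfsg.Agent.Lib.SharpThree.PGL
import Cfsg.Agent.Lib.DGroupCent.PGLInvol
import Cfsg.Agent.Lib.Linear.Card

/-!
The element-order counts of `PGL₂(q)`, `q` odd: `q²` involutions, `q² - 1` elements of order `p`, and
multiples of `q` otherwise; also the invariance of `PGL₂` under a change of field.
-/

set_option autoImplicit false
set_option linter.style.haveILetI false

namespace CfsgLib.RecogPGL2

open Subgroup Matrix CfsgLib.Recog.OrderCounts CfsgLib.SharpThree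
open scoped MatrixGroups

variable {F : Type*} [Field F]

/-- The image of a translation. -/
def uni (v : F) : ProjGenLinGroup (Fin 2) F := ProjGenLinGroup.mk (transMat v)

theorem uni_add (v w : F) : uni (v + w) = uni v * uni w := by
  rw [uni, uni, uni, ← map_mul]
  congr 1
  apply Units.ext
  rw [Units.val_mul, transMat_val, transMat_val, transMat_val]
  ext i j
  fin_cases i <;> fin_cases j <;> simp [Matrix.mul_apply, Fin.sum_univ_two, add_comm]

/-- Translations as a homomorphism. -/
def uniHom (F : Type*) [Field F] : Multiplicative F →* ProjGenLinGroup (Fin 2) F :=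
  MonoidHom.mk' (fun v => uni v.toAdd) fun v w => uni_add v.toAdd w.toAdd

theorem uni_zero : uni (0 : F) = 1 := map_one (uniHom F)

theorem uni_eq_one {v : F} (h : uni v = 1) : v = 0 := by
  rw [uni, ← map_one ProjGenLinGroup.mk, DGroupCent.pgl_mk_eq_iff] at h
  obtain ⟨r, hr⟩ := h
  have := congrFun (congrFun hr 0) 1
  simpa [transMat_val] using this.symm

theorem uniHom_injective : Function.Injective (uniHom F) := by
  rw [injective_iff_map_eq_one]
  intro v hv
  exact Multiplicative.toAdd.injective (uni_eq_one hv)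

/-- Only translations commute with a non-trivial translation. -/
theorem exists_uni_of_commute {v : F} (hv : v ≠ 0) {g : ProjGenLinGroup (Fin 2) F}
    (h : g * uni v = uni v * g) : ∃ w, g = uni w := by
  obtain ⟨m, rfl⟩ := ProjGenLinGroup.mk_surjective g
  rw [uni, ← map_mul, ← map_mul, DGroupCent.pgl_mk_eq_iff] at h
  obtain ⟨r, hr⟩ := h
  rw [Units.val_mul, Units.val_mul, transMat_val] at hr
  have e00 := congrFun (congrFun hr 0) 0
  have e01 := congrFun (congrFun hr 0) 1
  have e10 := congrFun (congrFun hr 1) 0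
  simp [Matrix.mul_apply, Fin.sum_univ_two] at e00 e01 e10
  have hdet := m.det_ne_zero
  rw [det_fin_two] at hdet
  generalize ha : (m : Matrix (Fin 2) (Fin 2) F) 0 0 = a at *
  generalize hb : (m : Matrix (Fin 2) (Fin 2) F) 0 1 = b at *
  generalize hc : (m : Matrix (Fin 2) (Fin 2) F) 1 0 = c at *
  generalize hd : (m : Matrix (Fin 2) (Fin 2) F) 1 1 = d at *
  have hc0 : c = 0 := by
    by_contra hc0
    have hr1 : (r : F) = 1 := mul_right_cancel₀ hc0 (by linear_combination -e10)
    rw [hr1] at e00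
    exact mul_ne_zero hv hc0 (by linear_combination e00)
  subst hc0
  have ha0 : a ≠ 0 := fun e => hdet (by simp [e])
  have hr1 : (r : F) = 1 := mul_right_cancel₀ ha0 (by linear_combination -e00)
  rw [hr1] at e01
  have had : d = a := mul_left_cancel₀ hv (by linear_combination e01)
  refine ⟨b / a, ?_⟩
  rw [uni, DGroupCent.pgl_mk_eq_iff]
  refine ⟨(Units.mk0 a ha0)⁻¹, ?_⟩
  rw [transMat_val]
  ext i j
  fin_cases i <;> fin_cases j <;> simp [ha, hb, hc, hd, had, ha0, div_eq_inv_mul]

variable [Fintype F] {p n : ℕ}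

instance finite_pgl : Finite (ProjGenLinGroup (Fin 2) F) :=
  Finite.of_surjective _ ProjGenLinGroup.mk_surjective

theorem card_pgl : Nat.card (ProjGenLinGroup (Fin 2) F) = Fintype.card F * (Fintype.card F ^ 2 - 1) := by
  classical
  rw [CfsgLib.Linear.card_PGL, CfsgLib.Linear.card_SL_two]

theorem card_uni_range : Nat.card ↥(uniHom F).range = Fintype.card F := by
  rw [Nat.card_congr (MonoidHom.ofInjective uniHom_injective).toEquiv.symm,
    Nat.card_congr Multiplicative.toAdd, Nat.card_eq_fintype_card]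

theorem centralizer_uni {v : F} (hv : v ≠ 0) :
    centralizer ({uni v} : Set (ProjGenLinGroup (Fin 2) F)) = (uniHom F).range := by
  refine le_antisymm (fun g hg => ?_) ?_
  · obtain ⟨w, rfl⟩ := exists_uni_of_commute hv (mem_centralizer_singleton_iff.1 hg)
    exact ⟨Multiplicative.ofAdd w, rfl⟩
  · rintro _ ⟨w, rfl⟩
    rw [mem_centralizer_singleton_iff]
    show uni w.toAdd * uni v = uni v * uni w.toAdd
    rw [← uni_add, ← uni_add, add_comm]

theorem uni_pow (v : F) (k : ℕ) : uni v ^ k = uni (k • v) := by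
  show uniHom F (Multiplicative.ofAdd v) ^ k = _
  rw [← map_pow, ← ofAdd_nsmul]
  rfl

theorem orderOf_uni (hp : p.Prime) [CharP F p] {v : F} (hv : v ≠ 0) : orderOf (uni v) = p := by
  haveI := Fact.mk hp
  refine orderOf_eq_prime ?_ (fun e => hv (uni_eq_one e))
  rw [uni_pow, nsmul_eq_mul, CharP.cast_eq_zero, zero_mul, uni_zero]

theorem dvd_cnt (hp : p.Prime) [CharP F p] {m : ℕ} (h1 : m ≠ 1) (hmp : m ≠ p) :
    Fintype.card F ∣ cnt (ProjGenLinGroup (Fin 2) F) m := by
  classical
  let S := {g : ProjGenLinGroup (Fin 2) F // orderOf g = m}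
  let U : Subgroup (ProjGenLinGroup (Fin 2) F) := (uniHom F).range
  letI : MulAction U S :=
    { smul := fun u g => ⟨(u : ProjGenLinGroup (Fin 2) F) * g * (u : ProjGenLinGroup (Fin 2) F)⁻¹,
        (MulEquiv.orderOf_eq (MulAut.conj (u : ProjGenLinGroup (Fin 2) F)) g.1).trans g.2⟩
      one_smul := fun g => Subtype.ext (show (1 : ProjGenLinGroup (Fin 2) F) * g * 1⁻¹ = g by simp)
      mul_smul := fun u w g => Subtype.ext (show ((u : ProjGenLinGroup (Fin 2) F) * w) * g * ((u : ProjGenLinGroup (Fin 2) F) * w)⁻¹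
        = (u : ProjGenLinGroup (Fin 2) F) * ((w : ProjGenLinGroup (Fin 2) F) * g * (w : ProjGenLinGroup (Fin 2) F)⁻¹) * (u : ProjGenLinGroup (Fin 2) F)⁻¹ by group) }
  have hfree : ∀ g : S, MulAction.stabilizer U g = ⊥ := by
    intro g
    refine (Subgroup.eq_bot_iff_forall _).2 fun u hu => Subtype.ext ?_
    have hc : (u : ProjGenLinGroup (Fin 2) F) * g * (u : ProjGenLinGroup (Fin 2) F)⁻¹ = g := congrArg Subtype.val hu
    rw [mul_inv_eq_iff_eq_mul] at hc
    obtain ⟨w, hw⟩ := u.2
    by_contra hne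
    have hw0 : w.toAdd ≠ 0 := fun e => hne (by
      rw [← hw]; show uni w.toAdd = 1; rw [e, uni_zero])
    obtain ⟨z, hz⟩ := exists_uni_of_commute hw0 (g := g.1) (by
      show g.1 * uniHom F w = uniHom F w * g.1
      rw [hw]; exact hc.symm)
    have hg := g.2
    rw [hz] at hg
    by_cases hz0 : z = 0
    · rw [hz0, uni_zero, orderOf_one] at hg
      exact h1 hg.symm
    · rw [orderOf_uni hp hz0] at hg
      exact hmp hg.symm
  have e := MulAction.selfEquivOrbitsQuotientProd hfree
  rw [cnt, Nat.card_congr e, Nat.card_prod]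
  have hU : Nat.card ↥U = Fintype.card F := card_uni_range
  rw [hU]
  exact dvd_mul_left _ _

theorem cnt_char (hp : p.Prime) [CharP F p] (hF : Fintype.card F = p ^ n) (hn : n ≠ 0) :
    cnt (ProjGenLinGroup (Fin 2) F) p = Fintype.card F ^ 2 - 1 := by
  classical
  haveI := Fact.mk hp
  have hq : 2 ≤ Fintype.card F := Fintype.one_lt_card
  have h4 : 4 ≤ Fintype.card F ^ 2 := by nlinarith
  have hcop : ¬ p ∣ (p ^ n) ^ 2 - 1 := fun hd => hp.ne_one (Nat.dvd_one.1 (by
    have h := Nat.dvd_sub ((dvd_pow_self p hn).trans (dvd_pow_self (p ^ n) two_ne_zero)) hd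
    rwa [Nat.sub_sub_self (by rw [hF] at h4; omega)] at h))
  have hconj : ∀ x : ProjGenLinGroup (Fin 2) F, orderOf x = p → ∃ k, k * uni 1 * k⁻¹ = x := by
    intro x hx
    let U : Sylow p (ProjGenLinGroup (Fin 2) F) := Sylow.ofCard (uniHom F).range (by
      rw [card_uni_range, card_pgl, hF, Nat.factorization_mul (pow_ne_zero _ hp.ne_zero) (by rw [hF] at h4; omega),
        Finsupp.add_apply, hp.factorization_pow, Finsupp.single_eq_same,
        Nat.factorization_eq_zero_of_not_dvd hcop, add_zero])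
    obtain ⟨Q, hQ⟩ := (IsPGroup.of_card (n := 1) (by rw [Nat.card_zpowers, hx, pow_one]) :
      IsPGroup p (Subgroup.zpowers x)).exists_le_sylow
    obtain ⟨k, hk⟩ := MulAction.exists_smul_eq (ProjGenLinGroup (Fin 2) F) U Q
    have hxU : x ∈ ((k • U : Sylow p (ProjGenLinGroup (Fin 2) F)) : Subgroup (ProjGenLinGroup (Fin 2) F)) := by
      rw [hk]; exact hQ (Subgroup.mem_zpowers x)
    rw [Sylow.coe_subgroup_smul] at hxU
    obtain ⟨_, ⟨w, rfl⟩, rfl⟩ := hxU
    have hw : w.toAdd ≠ 0 := fun e => by
      have e1 : uniHom F w = 1 := (show uniHom F w = uni w.toAdd from rfl).trans (by rw [e, uni_zero])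
      simp [e1] at hx
      exact hp.ne_one hx.symm
    refine ⟨k * ProjGenLinGroup.mk (scaleMat w.toAdd hw), ?_⟩
    show _ = k * uni w.toAdd * k⁻¹
    have e : ProjGenLinGroup.mk (scaleMat w.toAdd hw) * uni 1 * (ProjGenLinGroup.mk (scaleMat w.toAdd hw))⁻¹ =
        uni w.toAdd := by
      rw [mul_inv_eq_iff_eq_mul, uni, uni, ← map_mul, ← map_mul]
      congr 1
      apply Units.ext
      rw [Units.val_mul, Units.val_mul, transMat_val, transMat_val, scaleMat_val]
      ext i j
      fin_cases i <;> fin_cases j <;> simp [Matrix.mul_apply, Fin.sum_univ_two]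
    rw [← e]
    group
  have h := card_conj_mul (uni (1 : F))
  rw [centralizer_uni one_ne_zero, card_uni_range, card_pgl, mul_comm (Fintype.card F)] at h
  rw [cnt, ← Nat.eq_of_mul_eq_mul_right (show 0 < Fintype.card F by omega) h]
  exact Nat.card_congr (Equiv.subtypeEquivRight fun x => ⟨hconj x, by
    rintro ⟨k, rfl⟩
    exact (MulEquiv.orderOf_eq (MulAut.conj k) _).trans (orderOf_uni hp one_ne_zero)⟩)

theorem cnt_invol (hodd : Odd (Fintype.card F)) :
    cnt (ProjGenLinGroup (Fin 2) F) 2 = Fintype.card F ^ 2 := by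
  classical
  have h2 : (2 : F) ≠ 0 := by
    intro h
    have := (FiniteField.even_card_iff_char_two (F := F)).1
    have hc : ringChar F = 2 := by
      have hd : ringChar F ∣ 2 := (ringChar.spec F 2).1 (by exact_mod_cast h)
      exact ((Nat.dvd_prime Nat.prime_two).1 hd).resolve_left (CharP.char_is_prime F (ringChar F)).ne_one
    have := (FiniteField.even_card_iff_char_two (F := F)).1 hc
    rw [Nat.odd_iff] at hodd
    omega
  let X := {x : F × F × F // x.1 * x.1 + x.2.1 * x.2.2 ≠ 0}
  let T := {t : ProjGenLinGroup (Fin 2) F // orderOf t = 2}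
  choose lift hlift htr using fun t : T => DGroupCent.exists_traceless t.2
  have hdet : ∀ t : T, (lift t : Matrix (Fin 2) (Fin 2) F) 0 0 * (lift t : Matrix (Fin 2) (Fin 2) F) 0 0 +
      (lift t : Matrix (Fin 2) (Fin 2) F) 0 1 * (lift t : Matrix (Fin 2) (Fin 2) F) 1 0 ≠ 0 := fun t e => by
    have := (lift t).det_ne_zero
    rw [det_fin_two, htr t] at this
    exact this (by linear_combination -e)
  let f : T × Fˣ → X := fun x => ⟨((x.2 : F) * (lift x.1 : Matrix (Fin 2) (Fin 2) F) 0 0,
      (x.2 : F) * (lift x.1 : Matrix (Fin 2) (Fin 2) F) 0 1, (x.2 : F) * (lift x.1 : Matrix (Fin 2) (Fin 2) F) 1 0), by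
    have := mul_ne_zero (mul_ne_zero x.2.ne_zero x.2.ne_zero) (hdet x.1)
    intro e
    apply this
    simp only at e
    linear_combination e⟩
  have hf : Function.Bijective f := by
    constructor
    · rintro ⟨t, r⟩ ⟨t', r'⟩ e
      have e' := congrArg Subtype.val e
      simp only [f, Prod.mk.injEq] at e'
      obtain ⟨ea, eb, ec⟩ := e'
      have hm : (r : F) • (lift t : Matrix (Fin 2) (Fin 2) F) = (r' : F) • (lift t' : Matrix (Fin 2) (Fin 2) F) := by
        ext i j
        fin_cases i <;> fin_cases j <;> simp [htr, ea, eb, ec]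
      have htt : t = t' := by
        refine Subtype.ext ((hlift t).symm.trans (Eq.trans ?_ (hlift t')))
        rw [DGroupCent.pgl_mk_eq_iff]
        refine ⟨r'⁻¹ * r, ?_⟩
        rw [Units.val_mul, mul_smul, hm, ← mul_smul, ← Units.val_mul, inv_mul_cancel, Units.val_one, one_smul]
      subst htt
      refine Prod.ext rfl (Units.ext ?_)
      by_cases ha : (lift t : Matrix (Fin 2) (Fin 2) F) 0 0 = 0
      · have hb : (lift t : Matrix (Fin 2) (Fin 2) F) 0 1 ≠ 0 := fun e => hdet t (by simp [ha, e])
        exact mul_right_cancel₀ hb eb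
      · exact mul_right_cancel₀ ha ea
    · rintro ⟨⟨a, b, c⟩, hx⟩
      simp only at hx
      have hd : (!![a, b; c, -a] : Matrix (Fin 2) (Fin 2) F).det ≠ 0 := by
        rw [det_fin_two_of]
        exact fun e => hx (by linear_combination -e)
      let m : GL (Fin 2) F := GeneralLinearGroup.mkOfDetNeZero !![a, b; c, -a] hd
      have hm : (m : Matrix (Fin 2) (Fin 2) F) = !![a, b; c, -a] := rfl
      have ht : orderOf (ProjGenLinGroup.mk m) = 2 := by
        haveI : Fact (Nat.Prime 2) := ⟨Nat.prime_two⟩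
        refine orderOf_eq_prime ?_ ?_
        · rw [pow_two, ← map_mul, ← map_one ProjGenLinGroup.mk, eq_comm, DGroupCent.pgl_mk_eq_iff]
          refine ⟨Units.mk0 _ hx, ?_⟩
          rw [Units.val_mul, hm, Units.val_one, Units.val_mk0]
          ext i j
          fin_cases i <;> fin_cases j <;> simp [Matrix.mul_apply, Fin.sum_univ_two] <;> ring
        · rw [← map_one ProjGenLinGroup.mk, Ne, eq_comm, DGroupCent.pgl_mk_eq_iff]
          rintro ⟨r, hr⟩
          rw [hm, Units.val_one] at hr
          have e00 := congrFun (congrFun hr 0) 0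
          have e11 := congrFun (congrFun hr 1) 1
          simp at e00 e11
          have : (2 : F) * r = 0 := by linear_combination -e00 - e11
          exact r.ne_zero ((mul_eq_zero.1 this).resolve_left h2)
      obtain ⟨r, hr⟩ := DGroupCent.pgl_mk_eq_iff.1 (hlift ⟨_, ht⟩)
      rw [hm] at hr
      refine ⟨(⟨_, ht⟩, r), Subtype.ext ?_⟩
      have e := fun i j => congrFun (congrFun hr i) j
      simp only [f, Prod.mk.injEq]
      refine ⟨?_, ?_, ?_⟩
      · simpa using (e 0 0).symm
      · simpa using (e 0 1).symm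
      · simpa using (e 1 0).symm
  have hX : Nat.card X + Fintype.card F ^ 2 = Fintype.card F ^ 3 := by
    have hz : Nat.card {x : F × F × F // x.1 * x.1 + x.2.1 * x.2.2 = 0} = Fintype.card F ^ 2 := by
      rw [pow_two, ← Nat.card_eq_fintype_card, ← Nat.card_prod]
      refine Nat.card_congr
        { toFun := fun x => if x.1.2.2 = 0 then (x.1.2.1, 0) else (x.1.1, x.1.2.2)
          invFun := fun y => if hy : y.2 = 0 then ⟨(0, y.1, 0), by simp⟩
            else ⟨(y.1, -(y.1 * y.1) / y.2, y.2), by field_simp; ring⟩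
          left_inv := ?_
          right_inv := ?_ }
      · rintro ⟨⟨a, b, c⟩, h⟩
        simp only at h
        by_cases hc : c = 0
        · subst hc
          rw [mul_zero, add_zero, mul_self_eq_zero] at h
          subst h
          simp
        · have hb : -(a * a) / c = b := by rw [div_eq_iff hc]; linear_combination -h
          simp [hc, hb]
      · rintro ⟨x, y⟩
        by_cases hy : y = 0 <;> simp [hy]
    rw [← hz, ← Fintype.card_fin 3]
    simp only [X, Nat.card_eq_fintype_card]
    rw [Fintype.card_subtype_compl, Nat.sub_add_cancel (Fintype.card_subtype_le _)]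
    simp [Fintype.card_prod]
    ring
  have hcard : cnt (ProjGenLinGroup (Fin 2) F) 2 * (Fintype.card F - 1) = Nat.card X := by
    rw [← Nat.card_congr (Equiv.ofBijective f hf), Nat.card_prod, Nat.card_units, Nat.card_eq_fintype_card (α := F)]
    rfl
  have hq : 2 ≤ Fintype.card F := Fintype.one_lt_card
  obtain ⟨k, hk⟩ : ∃ k, Fintype.card F = k + 1 := ⟨_, (Nat.sub_add_cancel (by omega)).symm⟩
  rw [hk] at hcard hX hq ⊢
  rw [Nat.add_sub_cancel] at hcard
  rw [← hcard] at hX
  refine Nat.eq_of_mul_eq_mul_right (show 0 < k by omega) ?_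
  ring_nf at hX ⊢
  omega

/-- The values of the counting function of `PGL₂(q)`. -/
theorem values (hp : p.Prime) [CharP F p] (hF : Fintype.card F = p ^ n) (hn : n ≠ 0) (m : ℕ) :
    cnt (ProjGenLinGroup (Fin 2) F) m = 1 ∨ cnt (ProjGenLinGroup (Fin 2) F) m = (p ^ n) ^ 2 - 1 ∨
      p ^ n ∣ cnt (ProjGenLinGroup (Fin 2) F) m := by
  by_cases h1 : m = 1
  · subst h1; exact Or.inl cnt_one
  · by_cases hm : m = p
    · subst hm
      exact Or.inr (Or.inl (hF ▸ cnt_char hp hF hn))
    · exact Or.inr (Or.inr (hF ▸ dvd_cnt hp h1 hm))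

omit [Fintype F] in
/-- `PGL₂` depends on the field only up to isomorphism. -/
theorem pgl_congr {K : Type*} [Field K] (e : K ≃+* F) :
    Nonempty (ProjGenLinGroup (Fin 2) K ≃* ProjGenLinGroup (Fin 2) F) := by
  let φ : GL (Fin 2) K ≃* GL (Fin 2) F := Units.mapEquiv e.mapMatrix.toMulEquiv
  refine ⟨QuotientGroup.congr (Subgroup.center (GL (Fin 2) K)) (Subgroup.center (GL (Fin 2) F)) φ ?_⟩
  ext x
  simp only [Subgroup.mem_map, Subgroup.mem_center_iff, MulEquiv.coe_toMonoidHom]
  constructor
  · rintro ⟨y, hy, rfl⟩ g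
    obtain ⟨g', rfl⟩ := φ.surjective g
    show φ g' * φ y = φ y * φ g'
    rw [← map_mul, ← map_mul, hy g']
  · intro hx
    refine ⟨φ.symm x, fun g => φ.injective ?_, φ.apply_symm_apply x⟩
    rw [map_mul, map_mul, φ.apply_symm_apply]
    exact hx _

end CfsgLib.RecogPGL2
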